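/-
helper45: the fundamental theorem of projective geometry, vector form: a map `p : V → V` on the
non-zero vectors of a vector space of dimension at least three which preserves (in both directions)
the relation "`z` lies in the span of `x` and `y`" is, up to non-zero scalars, a semilinear map.

This file: basic notions (proportionality, independence of two or three vectors) and what a
collineation does to them.
-/
import Mathlib

set_option autoImplicit false

namespace Cfsg.Agent.Lib.Helper45.FTPG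

variable {K V : Type*} [Field K] [AddCommGroup V] [Module K V]

/-- `u` is a non-zero multiple of `v` -/
def Par (u v : V) : Prop := ∃ c : K, c ≠ 0 ∧ u = c • v

/-- `z` lies in the span of `x` and `y` -/
def Sp2 (x y z : V) : Prop := ∃ a b : K, z = a • x + b • y

/-- two vectors are linearly independent -/
def I2 (x y : V) : Prop := ∀ a b : K, a • x + b • y = 0 → a = 0 ∧ b = 0

/-- three vectors are linearly independent -/
def I3 (x y z : V) : Prop := ∀ a b c : K, a • x + b • y + c • z = 0 → a = 0 ∧ b = 0 ∧ c = 0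

variable (K) in
theorem Par.refl (v : V) : Par (K := K) v v := ⟨1, one_ne_zero, (one_smul K v).symm⟩

theorem Par.symm {u v : V} (h : Par (K := K) u v) : Par (K := K) v u := by
  obtain ⟨c, hc, rfl⟩ := h
  exact ⟨c⁻¹, inv_ne_zero hc, by rw [smul_smul, inv_mul_cancel₀ hc, one_smul]⟩

theorem Par.trans {u v w : V} (h : Par (K := K) u v) (h' : Par (K := K) v w) :
    Par (K := K) u w := by
  obtain ⟨c, hc, rfl⟩ := h
  obtain ⟨d, hd, rfl⟩ := h'
  exact ⟨c * d, mul_ne_zero hc hd, by rw [smul_smul]⟩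

theorem Par.ne_zero {u v : V} (h : Par (K := K) u v) (hv : v ≠ 0) : u ≠ 0 := by
  obtain ⟨c, hc, rfl⟩ := h
  exact smul_ne_zero hc hv

theorem Par.smul_left {u v : V} (h : Par (K := K) u v) {a : K} (ha : a ≠ 0) :
    Par (K := K) (a • u) v := by
  obtain ⟨c, hc, rfl⟩ := h
  exact ⟨a * c, mul_ne_zero ha hc, by rw [smul_smul]⟩

theorem I2.left_ne_zero {x y : V} (h : I2 (K := K) x y) : x ≠ 0 := by
  rintro rfl
  have := (h 1 0 (by simp)).1
  exact one_ne_zero this

theorem I2.right_ne_zero {x y : V} (h : I2 (K := K) x y) : y ≠ 0 := by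
  rintro rfl
  have := (h 0 1 (by simp)).2
  exact one_ne_zero this

theorem I2.symm {x y : V} (h : I2 (K := K) x y) : I2 (K := K) y x := by
  intro a b hab
  have := h b a (by rw [add_comm]; exact hab)
  exact ⟨this.2, this.1⟩

/-- if `x ≠ 0` and `x, y` are dependent then `y` is a multiple of `x` -/
theorem exists_smul_of_not_I2 {x y : V} (hx : x ≠ 0) (h : ¬ I2 (K := K) x y) :
    ∃ a : K, y = a • x := by
  unfold I2 at h
  push Not at h
  obtain ⟨a, b, hab, hne⟩ := h
  have hb : b ≠ 0 := by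
    intro hb
    rw [hb, zero_smul, add_zero] at hab
    have ha : a = 0 := by
      rcases smul_eq_zero.mp hab with h1 | h1
      · exact h1
      · exact absurd h1 hx
    exact hne ha hb
  refine ⟨-(b⁻¹ * a), ?_⟩
  have h1 : b⁻¹ • (a • x + b • y) = 0 := by rw [hab, smul_zero]
  rw [smul_add, smul_smul, smul_smul, inv_mul_cancel₀ hb, one_smul] at h1
  rw [neg_smul]
  exact eq_neg_of_add_eq_zero_right h1

theorem not_I2_smul (x : V) (a : K) : ¬ I2 (K := K) x (a • x) := by
  intro h
  have := (h a (-1) (by rw [neg_smul, one_smul, add_neg_cancel])).2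
  exact (neg_ne_zero.mpr one_ne_zero) this

theorem I2_iff_not_smul {x y : V} (hx : x ≠ 0) : I2 (K := K) x y ↔ ∀ a : K, y ≠ a • x := by
  constructor
  · intro h a hy
    rw [hy] at h
    exact not_I2_smul x a h
  · intro h
    by_contra hn
    obtain ⟨a, ha⟩ := exists_smul_of_not_I2 hx hn
    exact h a ha

theorem I3.i2_12 {x y z : V} (h : I3 (K := K) x y z) : I2 (K := K) x y := by
  intro a b hab
  have := h a b 0 (by rw [zero_smul, add_zero]; exact hab)
  exact ⟨this.1, this.2.1⟩

theorem I3.i2_13 {x y z : V} (h : I3 (K := K) x y z) : I2 (K := K) x z := by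
  intro a c hac
  have := h a 0 c (by rw [zero_smul, add_zero]; exact hac)
  exact ⟨this.1, this.2.2⟩

theorem I3.i2_23 {x y z : V} (h : I3 (K := K) x y z) : I2 (K := K) y z := by
  intro b c hbc
  have := h 0 b c (by rw [zero_smul, zero_add]; exact hbc)
  exact ⟨this.2.1, this.2.2⟩

theorem I3.swap23 {x y z : V} (h : I3 (K := K) x y z) : I3 (K := K) x z y := by
  intro a b c habc
  have := h a c b (by rw [← habc]; abel)
  exact ⟨this.1, this.2.2, this.2.1⟩

theorem I3.not_sp2 {x y z : V} (h : I3 (K := K) x y z) : ¬ Sp2 (K := K) x y z := by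
  rintro ⟨a, b, hz⟩
  have := (h a b (-1) (by rw [hz, neg_smul, one_smul, add_neg_cancel])).2.2
  exact (neg_ne_zero.mpr one_ne_zero) this

theorem I3_of_I2_of_not_sp2 {x y z : V} (h : I2 (K := K) x y) (hz : ¬ Sp2 (K := K) x y z) :
    I3 (K := K) x y z := by
  intro a b c habc
  have hc : c = 0 := by
    by_contra hc
    apply hz
    refine ⟨-(c⁻¹ * a), -(c⁻¹ * b), ?_⟩
    have h1 : c⁻¹ • (a • x + b • y + c • z) = 0 := by rw [habc, smul_zero]
    rw [smul_add, smul_add, smul_smul, smul_smul, smul_smul, inv_mul_cancel₀ hc, one_smul] at h1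
    rw [neg_smul, neg_smul, ← neg_add]
    exact eq_neg_of_add_eq_zero_right h1
  rw [hc, zero_smul, add_zero] at habc
  have := h a b habc
  exact ⟨this.1, this.2, hc⟩

theorem I3_iff {x y z : V} : I3 (K := K) x y z ↔ I2 (K := K) x y ∧ ¬ Sp2 (K := K) x y z :=
  ⟨fun h => ⟨h.i2_12, h.not_sp2⟩, fun h => I3_of_I2_of_not_sp2 h.1 h.2⟩

/-- a collineation: non-zero vectors go to non-zero vectors and spans of pairs are respected in
both directions -/
structure IsColl (p : V → V) : Prop where
  ne_zero : ∀ x : V, x ≠ 0 → p x ≠ 0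
  col : ∀ x y z : V, x ≠ 0 → y ≠ 0 → z ≠ 0 →
    (Sp2 (K := K) x y z ↔ Sp2 (K := K) (p x) (p y) (p z))

variable {p : V → V}

theorem IsColl.par_smul (hp : IsColl (K := K) p) {x : V} (hx : x ≠ 0) {a : K} (ha : a ≠ 0) :
    Par (K := K) (p (a • x)) (p x) := by
  have hax : a • x ≠ 0 := smul_ne_zero ha hx
  have h1 : Sp2 (K := K) x x (a • x) := ⟨a, 0, by rw [zero_smul, add_zero]⟩
  obtain ⟨α, β, h2⟩ := (hp.col x x (a • x) hx hx hax).mp h1
  rw [← add_smul] at h2
  refine ⟨α + β, ?_, h2⟩
  intro h0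
  rw [h0, zero_smul] at h2
  exact hp.ne_zero _ hax h2

theorem IsColl.par_of_par (hp : IsColl (K := K) p) {x y : V} (hx : x ≠ 0)
    (h : Par (K := K) y x) : Par (K := K) (p y) (p x) := by
  obtain ⟨a, ha, rfl⟩ := h
  exact hp.par_smul hx ha

theorem IsColl.i2 (hp : IsColl (K := K) p) {x y : V} (h : I2 (K := K) x y) :
    I2 (K := K) (p x) (p y) := by
  have hx := h.left_ne_zero
  have hy := h.right_ne_zero
  rw [I2_iff_not_smul (hp.ne_zero x hx)]
  intro a ha
  have h1 : Sp2 (K := K) (p x) (p x) (p y) := ⟨a, 0, by rw [zero_smul, add_zero]; exact ha⟩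
  obtain ⟨α, β, h2⟩ := (hp.col x x y hx hx hy).mpr h1
  rw [← add_smul] at h2
  rw [h2] at h
  exact not_I2_smul x _ h

theorem IsColl.i3 (hp : IsColl (K := K) p) {x y z : V} (h : I3 (K := K) x y z) :
    I3 (K := K) (p x) (p y) (p z) := by
  rw [I3_iff] at h ⊢
  refine ⟨hp.i2 h.1, ?_⟩
  intro h1
  apply h.2
  exact (hp.col x y z h.1.left_ne_zero h.1.right_ne_zero (by
    rintro rfl
    exact h.2 ⟨0, 0, by simp⟩)).mpr h1

theorem I2.of_par_right {x y y' : V} (h : I2 (K := K) x y) (hy : Par (K := K) y' y) :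
    I2 (K := K) x y' := by
  obtain ⟨c, hc, rfl⟩ := hy
  intro a b hab
  rw [smul_smul] at hab
  have := h a (b * c) hab
  exact ⟨this.1, (mul_eq_zero.mp this.2).resolve_right hc⟩

theorem I2.of_par_left {x x' y : V} (h : I2 (K := K) x y) (hx : Par (K := K) x' x) :
    I2 (K := K) x' y := (h.symm.of_par_right hx).symm

theorem I3.of_par {x y z x' y' z' : V} (h : I3 (K := K) x y z) (hx : Par (K := K) x' x)
    (hy : Par (K := K) y' y) (hz : Par (K := K) z' z) : I3 (K := K) x' y' z' := by
  obtain ⟨c₁, hc₁, rfl⟩ := hx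
  obtain ⟨c₂, hc₂, rfl⟩ := hy
  obtain ⟨c₃, hc₃, rfl⟩ := hz
  intro a b c habc
  rw [smul_smul, smul_smul, smul_smul] at habc
  have := h _ _ _ habc
  exact ⟨(mul_eq_zero.mp this.1).resolve_right hc₁, (mul_eq_zero.mp this.2.1).resolve_right hc₂,
    (mul_eq_zero.mp this.2.2).resolve_right hc₃⟩

end Cfsg.Agent.Lib.Helper45.FTPG
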