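/-
helper45: FTPG, step 1: the normalised lift `f0` of a collineation off the base point `x₀`, its
additivity on independent triples, and the companion field map.
-/
import Cfsg.Agent.Lib.Helper45.FTPG.Basic

set_option autoImplicit false

namespace Cfsg.Agent.Lib.Helper45.FTPG

variable {K V : Type*} [Field K] [AddCommGroup V] [Module K V] {p : V → V}

theorem I2.add_ne_zero {x y : V} (h : I2 (K := K) x y) : x + y ≠ 0 := by
  intro h0
  have := (h 1 1 (by rw [one_smul, one_smul]; exact h0)).1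
  exact one_ne_zero this

theorem I2.add_right {x y : V} (h : I2 (K := K) x y) : I2 (K := K) x (x + y) := by
  intro a b hab
  have h1 : (a + b) • x + b • y = 0 := by
    rw [← hab]; module
  have := h _ _ h1
  have hb := this.2
  rw [hb, add_zero] at this
  exact ⟨this.1, hb⟩

/-- the two defining properties of the normalised lift -/
theorem exists_lift (hp : IsColl (K := K) p) {x₀ y : V} (h : I2 (K := K) x₀ y) :
    ∃ y' : V, Par (K := K) (p y) y' ∧ Par (K := K) (p (x₀ + y)) (p x₀ + y') := by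
  have hx := h.left_ne_zero
  have hy := h.right_ne_zero
  have hxy := h.add_ne_zero
  have hI := hp.i2 h
  have h1 : Sp2 (K := K) x₀ y (x₀ + y) := ⟨1, 1, by rw [one_smul, one_smul]⟩
  obtain ⟨α, β, hαβ⟩ := (hp.col x₀ y (x₀ + y) hx hy hxy).mp h1
  have hα : α ≠ 0 := by
    intro h0
    rw [h0, zero_smul, zero_add] at hαβ
    have h2 : Sp2 (K := K) (p y) (p y) (p (x₀ + y)) := ⟨β, 0, by rw [zero_smul, add_zero]; exact hαβ⟩
    obtain ⟨a, b, hab⟩ := (hp.col y y (x₀ + y) hy hy hxy).mpr h2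
    have h3 : (1 : K) • x₀ + (1 - (a + b)) • y = 0 := by
      linear_combination (norm := module) hab
    exact one_ne_zero (h _ _ h3).1
  have hβ : β ≠ 0 := by
    intro h0
    rw [h0, zero_smul, add_zero] at hαβ
    have h2 : Sp2 (K := K) (p x₀) (p x₀) (p (x₀ + y)) :=
      ⟨α, 0, by rw [zero_smul, add_zero]; exact hαβ⟩
    obtain ⟨a, b, hab⟩ := (hp.col x₀ x₀ (x₀ + y) hx hx hxy).mpr h2
    have h3 : (1 - (a + b)) • x₀ + (1 : K) • y = 0 := by
      linear_combination (norm := module) hab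
    exact one_ne_zero (h _ _ h3).2
  refine ⟨(α⁻¹ * β) • p y, ?_, ?_⟩
  · refine ⟨β⁻¹ * α, mul_ne_zero (inv_ne_zero hβ) hα, ?_⟩
    rw [smul_smul]
    have : β⁻¹ * α * (α⁻¹ * β) = 1 := by field_simp
    rw [this, one_smul]
  · refine ⟨α, hα, ?_⟩
    rw [hαβ, smul_add, smul_smul]
    have : α * (α⁻¹ * β) = β := by field_simp
    rw [this]

open Classical in
/-- the normalised lift of the collineation `p` with respect to the base vector `x₀` -/
noncomputable def f0 (hp : IsColl (K := K) p) (x₀ : V) (y : V) : V :=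
  if h : I2 (K := K) x₀ y then Classical.choose (exists_lift hp h) else 0

theorem par_f0 (hp : IsColl (K := K) p) {x₀ y : V} (h : I2 (K := K) x₀ y) :
    Par (K := K) (p y) (f0 hp x₀ y) := by
  unfold f0
  rw [dif_pos h]
  exact (Classical.choose_spec (exists_lift hp h)).1

theorem par_f0_add (hp : IsColl (K := K) p) {x₀ y : V} (h : I2 (K := K) x₀ y) :
    Par (K := K) (p (x₀ + y)) (p x₀ + f0 hp x₀ y) := by
  unfold f0
  rw [dif_pos h]
  exact (Classical.choose_spec (exists_lift hp h)).2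

theorem f0_ne_zero (hp : IsColl (K := K) p) {x₀ y : V} (h : I2 (K := K) x₀ y) :
    f0 hp x₀ y ≠ 0 :=
  (par_f0 hp h).symm.ne_zero (hp.ne_zero y h.right_ne_zero)

theorem i2_f0 (hp : IsColl (K := K) p) {x₀ y : V} (h : I2 (K := K) x₀ y) :
    I2 (K := K) (p x₀) (f0 hp x₀ y) :=
  (hp.i2 h).of_par_right (par_f0 hp h).symm

theorem i3_f0 (hp : IsColl (K := K) p) {x₀ y z : V} (h : I3 (K := K) x₀ y z) :
    I3 (K := K) (p x₀) (f0 hp x₀ y) (f0 hp x₀ z) :=
  (hp.i3 h).of_par (Par.refl K _) (par_f0 hp h.i2_12).symm (par_f0 hp h.i2_13).symm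

theorem I3.i2_add {x y z : V} (h : I3 (K := K) x y z) : I2 (K := K) x (y + z) := by
  intro a b hab
  have h1 : a • x + b • y + b • z = 0 := by rw [← hab]; module
  have := h _ _ _ h1
  exact ⟨this.1, this.2.1⟩

/-- image of a vector of the span of `x, y` in terms of the lifts -/
theorem sp2_image (hp : IsColl (K := K) p) {x y z x' y' : V} (hx : x ≠ 0) (hy : y ≠ 0) (hz : z ≠ 0)
    (h : Sp2 (K := K) x y z) (hx' : Par (K := K) (p x) x') (hy' : Par (K := K) (p y) y') :
    Sp2 (K := K) x' y' (p z) := by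
  obtain ⟨a, b, hab⟩ := (hp.col x y z hx hy hz).mp h
  obtain ⟨c, -, hc⟩ := hx'
  obtain ⟨d, -, hd⟩ := hy'
  exact ⟨a * c, b * d, by rw [hab, hc, hd, smul_smul, smul_smul]⟩

/-- additivity of the lift on independent triples -/
theorem f0_add (hp : IsColl (K := K) p) {x₀ y z : V} (h : I3 (K := K) x₀ y z) :
    f0 hp x₀ (y + z) = f0 hp x₀ y + f0 hp x₀ z := by
  have hy := h.i2_12
  have hz := h.i2_13
  have hyz := h.i2_add
  have hI := i3_f0 hp h
  set x' := p x₀
  set fy := f0 hp x₀ y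
  set fz := f0 hp x₀ z
  set g := f0 hp x₀ (y + z)
  have hw : x₀ + (y + z) ≠ 0 := hyz.add_ne_zero
  -- first expression of `p w`
  have e1 : Sp2 (K := K) (x' + fy) fz (p (x₀ + (y + z))) := by
    apply sp2_image hp hy.add_ne_zero hz.right_ne_zero hw ?_ (par_f0_add hp hy) (par_f0 hp hz)
    exact ⟨1, 1, by module⟩
  have e2 : Sp2 (K := K) (x' + fz) fy (p (x₀ + (y + z))) := by
    apply sp2_image hp hz.add_ne_zero hy.right_ne_zero hw ?_ (par_f0_add hp hz) (par_f0 hp hy)
    exact ⟨1, 1, by module⟩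
  obtain ⟨a₁, b₁, h1⟩ := e1
  obtain ⟨a₂, b₂, h2⟩ := e2
  have h3 : (a₁ - a₂) • x' + (a₁ - b₂) • fy + (b₁ - a₂) • fz = 0 := by
    have : a₁ • (x' + fy) + b₁ • fz = a₂ • (x' + fz) + b₂ • fy := by rw [← h1, ← h2]
    linear_combination (norm := module) this
  obtain ⟨c1, c2, c3⟩ := hI _ _ _ h3
  have ha₂ : a₂ = a₁ := (sub_eq_zero.mp c1).symm
  have hb₁ : b₁ = a₁ := by rw [sub_eq_zero.mp c3, ha₂]
  -- `p w = a₁ (x' + fy + fz)`
  have h4 : p (x₀ + (y + z)) = a₁ • (x' + fy + fz) := by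
    rw [h1, hb₁]; module
  have ha₁ : a₁ ≠ 0 := by
    intro h0
    rw [h0, zero_smul] at h4
    exact hp.ne_zero _ hw h4
  -- `g` in the span of `fy, fz`
  have e3 : Sp2 (K := K) fy fz (p (y + z)) := by
    apply sp2_image hp hy.right_ne_zero hz.right_ne_zero hyz.right_ne_zero ?_ (par_f0 hp hy)
      (par_f0 hp hz)
    exact ⟨1, 1, by module⟩
  obtain ⟨c, d, hcd⟩ := e3
  obtain ⟨k, hk, hkg⟩ := par_f0 hp hyz
  obtain ⟨e, he, heg⟩ := par_f0_add hp hyz
  have hg : g = (k⁻¹ * c) • fy + (k⁻¹ * d) • fz := by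
    have : g = k⁻¹ • p (y + z) := by
      rw [hkg, smul_smul, inv_mul_cancel₀ hk, one_smul]
    rw [this, hcd]; module
  have h5 : (e - a₁) • x' + (e * (k⁻¹ * c) - a₁) • fy + (e * (k⁻¹ * d) - a₁) • fz = 0 := by
    have : e • (x' + g) = a₁ • (x' + fy + fz) := by rw [← heg, ← h4]
    rw [hg] at this
    linear_combination (norm := module) this
  obtain ⟨d1, d2, d3⟩ := hI _ _ _ h5
  have hea : e = a₁ := sub_eq_zero.mp d1
  have hc1 : k⁻¹ * c = 1 := by
    have := sub_eq_zero.mp d2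
    rw [hea] at this
    exact mul_left_cancel₀ ha₁ (this.trans (mul_one a₁).symm)
  have hd1 : k⁻¹ * d = 1 := by
    have := sub_eq_zero.mp d3
    rw [hea] at this
    exact mul_left_cancel₀ ha₁ (this.trans (mul_one a₁).symm)
  rw [hg, hc1, hd1, one_smul, one_smul]

theorem I2.smul_right {x y : V} (h : I2 (K := K) x y) {a : K} (ha : a ≠ 0) :
    I2 (K := K) x (a • y) :=
  h.of_par_right ⟨a, ha, rfl⟩

/-- the lift of a multiple is a multiple of the lift -/
theorem exists_f0_smul (hp : IsColl (K := K) p) {x₀ y : V} (h : I2 (K := K) x₀ y) {a : K}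
    (ha : a ≠ 0) : ∃ s : K, s ≠ 0 ∧ f0 hp x₀ (a • y) = s • f0 hp x₀ y := by
  have h1 := par_f0 hp (h.smul_right ha)
  have h2 := hp.par_smul h.right_ne_zero ha
  have h3 := par_f0 hp h
  exact (h1.symm.trans (h2.trans h3))

theorem f0_smul_unique (hp : IsColl (K := K) p) {x₀ y : V} (h : I2 (K := K) x₀ y) {s t : K}
    (hst : s • f0 hp x₀ y = t • f0 hp x₀ y) : s = t := by
  have h0 := f0_ne_zero hp h
  have : (s - t) • f0 hp x₀ y = 0 := by rw [sub_smul, hst, sub_self]
  rcases smul_eq_zero.mp this with h1 | h1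
  · exact sub_eq_zero.mp h1
  · exact absurd h1 h0

/-- the scalar is the same for independent vectors -/
theorem f0_smul_indep (hp : IsColl (K := K) p) {x₀ y z : V} (h : I3 (K := K) x₀ y z) {a s t : K}
    (ha : a ≠ 0) (hs : f0 hp x₀ (a • y) = s • f0 hp x₀ y)
    (ht : f0 hp x₀ (a • z) = t • f0 hp x₀ z) : s = t := by
  have hI := i3_f0 hp h
  have h1 : I3 (K := K) x₀ (a • y) (a • z) :=
    h.of_par (Par.refl K _) ⟨a, ha, rfl⟩ ⟨a, ha, rfl⟩
  obtain ⟨u, hu, hu2⟩ := exists_f0_smul hp h.i2_add ha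
  have h2 : f0 hp x₀ (a • (y + z)) = s • f0 hp x₀ y + t • f0 hp x₀ z := by
    rw [smul_add, f0_add hp h1, hs, ht]
  rw [hu2, f0_add hp h, smul_add] at h2
  have h3 : (0 : K) • p x₀ + (u - s) • f0 hp x₀ y + (u - t) • f0 hp x₀ z = 0 := by
    linear_combination (norm := module) h2
  obtain ⟨-, c2, c3⟩ := hI _ _ _ h3
  rw [← sub_eq_zero.mp c2, ← sub_eq_zero.mp c3]

end Cfsg.Agent.Lib.Helper45.FTPG
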