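/-
helper45: FTPG, step 2: the companion field endomorphism, the extension of the lift to the base
line, and the theorem.
-/
import Cfsg.Agent.Lib.Helper45.FTPG.Lift

set_option autoImplicit false

namespace Cfsg.Agent.Lib.Helper45.FTPG

variable {K V : Type*} [Field K] [AddCommGroup V] [Module K V] {p : V → V}

theorem exists_I2 (hdim : ∀ u v : V, ∃ w : V, ¬ Sp2 (K := K) u v w) {x₀ : V} (hx₀ : x₀ ≠ 0) :
    ∃ y : V, I2 (K := K) x₀ y := by
  obtain ⟨w, hw⟩ := hdim x₀ x₀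
  refine ⟨w, ?_⟩
  rw [I2_iff_not_smul hx₀]
  intro a ha
  exact hw ⟨a, 0, by rw [zero_smul, add_zero]; exact ha⟩

theorem exists_I3 (hdim : ∀ u v : V, ∃ w : V, ¬ Sp2 (K := K) u v w) {x₀ y : V}
    (h : I2 (K := K) x₀ y) : ∃ z : V, I3 (K := K) x₀ y z := by
  obtain ⟨w, hw⟩ := hdim x₀ y
  exact ⟨w, I3_of_I2_of_not_sp2 h hw⟩

/-- a third vector independent of `x₀, y` and of `x₀, z` -/
theorem exists_I3_both (hdim : ∀ u v : V, ∃ w : V, ¬ Sp2 (K := K) u v w) {x₀ y z : V}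
    (hy : I2 (K := K) x₀ y) (hz : I2 (K := K) x₀ z) (hyz : ¬ I3 (K := K) x₀ y z) :
    ∃ w : V, I3 (K := K) x₀ y w ∧ I3 (K := K) x₀ z w := by
  obtain ⟨w, hw⟩ := hdim x₀ y
  refine ⟨w, I3_of_I2_of_not_sp2 hy hw, I3_of_I2_of_not_sp2 hz ?_⟩
  have h1 : Sp2 (K := K) x₀ y z := by
    by_contra h
    exact hyz (I3_of_I2_of_not_sp2 hy h)
  obtain ⟨α, β, hαβ⟩ := h1
  rintro ⟨γ, δ, hγδ⟩
  apply hw
  refine ⟨γ + δ * α, δ * β, ?_⟩
  rw [hγδ, hαβ]; module

/-- the scalar by which the lift of `a • y` differs from the lift of `y` does not depend on `y` -/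
theorem f0_smul_any (hp : IsColl (K := K) p) (hdim : ∀ u v : V, ∃ w : V, ¬ Sp2 (K := K) u v w)
    {x₀ y z : V} (hy : I2 (K := K) x₀ y) (hz : I2 (K := K) x₀ z) {a s t : K} (ha : a ≠ 0)
    (hs : f0 hp x₀ (a • y) = s • f0 hp x₀ y) (ht : f0 hp x₀ (a • z) = t • f0 hp x₀ z) : s = t := by
  by_cases h : I3 (K := K) x₀ y z
  · exact f0_smul_indep hp h ha hs ht
  · obtain ⟨w, hw1, hw2⟩ := exists_I3_both hdim hy hz h
    obtain ⟨u, -, hu⟩ := exists_f0_smul hp hw1.i2_13 ha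
    rw [f0_smul_indep hp hw1 ha hs hu, f0_smul_indep hp hw2 ha ht hu]

theorem exists_sigma_fun (hp : IsColl (K := K) p)
    (hdim : ∀ u v : V, ∃ w : V, ¬ Sp2 (K := K) u v w) {x₀ : V} (hx₀ : x₀ ≠ 0) :
    ∃ σ : K → K, σ 0 = 0 ∧ (∀ a, a ≠ 0 → σ a ≠ 0) ∧
      ∀ y, I2 (K := K) x₀ y → ∀ a, a ≠ 0 → f0 hp x₀ (a • y) = σ a • f0 hp x₀ y := by
  classical
  obtain ⟨y₁, hy₁⟩ := exists_I2 hdim hx₀
  refine ⟨fun a => if ha : a = 0 then 0 else Classical.choose (exists_f0_smul hp hy₁ ha), ?_, ?_, ?_⟩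
  · simp
  · intro a ha
    simp only [dif_neg ha]
    exact (Classical.choose_spec (exists_f0_smul hp hy₁ ha)).1
  · intro y hy a ha
    simp only [dif_neg ha]
    obtain ⟨t, -, ht⟩ := exists_f0_smul hp hy ha
    have hs := (Classical.choose_spec (exists_f0_smul hp hy₁ ha)).2
    rw [ht, f0_smul_any hp hdim hy hy₁ ha ht hs]

section Sigma

variable (hp : IsColl (K := K) p) (hdim : ∀ u v : V, ∃ w : V, ¬ Sp2 (K := K) u v w)
  {x₀ : V} (hx₀ : x₀ ≠ 0) {σ : K → K} (hσ0 : σ 0 = 0) (hσne : ∀ a, a ≠ 0 → σ a ≠ 0)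
  (hσ : ∀ y, I2 (K := K) x₀ y → ∀ a, a ≠ 0 → f0 hp x₀ (a • y) = σ a • f0 hp x₀ y)

include hdim hx₀ hσ in
theorem sigma_one : σ 1 = 1 := by
  obtain ⟨y, hy⟩ := exists_I2 hdim hx₀
  have h1 := hσ y hy 1 one_ne_zero
  rw [one_smul] at h1
  exact (f0_smul_unique hp hy (h1.symm.trans (one_smul K _).symm)).symm ▸ rfl

include hdim hx₀ hσ0 hσ in
theorem sigma_mul (a b : K) : σ (a * b) = σ a * σ b := by
  by_cases ha : a = 0
  · rw [ha, zero_mul, hσ0, zero_mul]
  by_cases hb : b = 0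
  · rw [hb, mul_zero, hσ0, mul_zero]
  obtain ⟨y, hy⟩ := exists_I2 hdim hx₀
  have h1 := hσ y hy (a * b) (mul_ne_zero ha hb)
  rw [mul_smul, hσ (b • y) (hy.smul_right hb) a ha, hσ y hy b hb, smul_smul] at h1
  exact (f0_smul_unique hp hy h1).symm

include hdim hx₀ hσ0 hσ in
theorem sigma_add (a b : K) : σ (a + b) = σ a + σ b := by
  by_cases ha : a = 0
  · rw [ha, zero_add, hσ0, zero_add]
  by_cases hb : b = 0
  · rw [hb, add_zero, hσ0, add_zero]
  obtain ⟨y, hy⟩ := exists_I2 hdim hx₀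
  obtain ⟨z, hz⟩ := exists_I3 hdim hy
  have hI := i3_f0 hp hz
  -- `a • y + (b • y + z)`
  have h1 : I3 (K := K) x₀ (a • y) (b • y + z) := by
    intro α β γ h
    have h2 : α • x₀ + (β * a + γ * b) • y + γ • z = 0 := by rw [← h]; module
    obtain ⟨c1, c2, c3⟩ := hz _ _ _ h2
    rw [c3, zero_mul, add_zero] at c2
    exact ⟨c1, (mul_eq_zero.mp c2).resolve_right ha, c3⟩
  have h3 : I3 (K := K) x₀ (b • y) z := hz.of_par (Par.refl K _) ⟨b, hb, rfl⟩ (Par.refl K _)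
  have e1 : f0 hp x₀ (a • y + (b • y + z)) =
      σ a • f0 hp x₀ y + (σ b • f0 hp x₀ y + f0 hp x₀ z) := by
    rw [f0_add hp h1, f0_add hp h3, hσ y hy a ha, hσ y hy b hb]
  by_cases hab : a + b = 0
  · have h4 : a • y + (b • y + z) = z := by
      have : a • y + (b • y + z) = (a + b) • y + z := by module
      rw [this, hab, zero_smul, zero_add]
    rw [h4] at e1
    have h5 : (0 : K) • p x₀ + (σ a + σ b) • f0 hp x₀ y + (0 : K) • f0 hp x₀ z = 0 := by
      linear_combination (norm := module) -e1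
    rw [hab, hσ0]
    exact ((hI _ _ _ h5).2.1).symm
  · have h4 : a • y + (b • y + z) = (a + b) • y + z := by module
    have h5 : I3 (K := K) x₀ ((a + b) • y) z :=
      hz.of_par (Par.refl K _) ⟨a + b, hab, rfl⟩ (Par.refl K _)
    rw [h4, f0_add hp h5, hσ y hy (a + b) hab] at e1
    have h6 : (0 : K) • p x₀ + (σ (a + b) - (σ a + σ b)) • f0 hp x₀ y +
        (0 : K) • f0 hp x₀ z = 0 := by
      linear_combination (norm := module) e1
    exact sub_eq_zero.mp (hI _ _ _ h6).2.1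

include hdim hx₀ hσ0 hσ in
theorem sigma_neg_one : σ (-1) = -1 := by
  have h1 := sigma_add hp hdim hx₀ hσ0 hσ (-1) 1
  rw [neg_add_cancel, hσ0, sigma_one hp hdim hx₀ hσ] at h1
  exact (eq_neg_of_add_eq_zero_left h1.symm)

include hdim in
/-- the lift of `x₀ + y` -/
theorem f0_base_add {y : V} (hy : I2 (K := K) x₀ y) :
    f0 hp x₀ (x₀ + y) = p x₀ + f0 hp x₀ y := by
  obtain ⟨z, hz⟩ := exists_I3 hdim hy
  have hI := i3_f0 hp hz
  have hzz := hz.i2_13
  obtain ⟨c, hc, hc2⟩ : Par (K := K) (f0 hp x₀ (x₀ + y)) (p x₀ + f0 hp x₀ y) :=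
    (par_f0 hp hy.add_right).symm.trans (par_f0_add hp hy)
  obtain ⟨c', hc', hc2'⟩ : Par (K := K) (f0 hp x₀ (x₀ + z)) (p x₀ + f0 hp x₀ z) :=
    (par_f0 hp hzz.add_right).symm.trans (par_f0_add hp hzz)
  have h1 : I3 (K := K) x₀ (x₀ + y) z := by
    intro α β γ h
    have h2 : (α + β) • x₀ + β • y + γ • z = 0 := by rw [← h]; module
    obtain ⟨c1, c2, c3⟩ := hz _ _ _ h2
    rw [c2, add_zero] at c1
    exact ⟨c1, c2, c3⟩
  have h2 : I3 (K := K) x₀ (x₀ + z) y := by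
    intro α β γ h
    have h2 : (α + β) • x₀ + γ • y + β • z = 0 := by rw [← h]; module
    obtain ⟨c1, c2, c3⟩ := hz _ _ _ h2
    rw [c3, add_zero] at c1
    exact ⟨c1, c3, c2⟩
  have e1 := f0_add hp h1
  have e2 := f0_add hp h2
  have h3 : x₀ + y + z = x₀ + z + y := by abel
  rw [h3, e2, hc2, hc2'] at e1
  have h4 : (c' - c) • p x₀ + (1 - c) • f0 hp x₀ y + (c' - 1) • f0 hp x₀ z = 0 := by
    linear_combination (norm := module) e1
  obtain ⟨-, d2, -⟩ := hI _ _ _ h4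
  have hc1 : c = 1 := (sub_eq_zero.mp d2).symm
  rw [hc2, hc1, one_smul]

end Sigma

/-- the coefficient of a vector on the base line -/
theorem coef_unique {x₀ : V} (hx₀ : x₀ ≠ 0) {a b : K} (h : a • x₀ = b • x₀) : a = b := by
  have : (a - b) • x₀ = 0 := by rw [sub_smul, h, sub_self]
  rcases smul_eq_zero.mp this with h1 | h1
  · exact sub_eq_zero.mp h1
  · exact absurd h1 hx₀

open Classical in
/-- the extension of the lift to the whole space -/
noncomputable def fExt (hp : IsColl (K := K) p) {x₀ : V} (hx₀ : x₀ ≠ 0) (σ : K → K) (v : V) : V :=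
  if h : I2 (K := K) x₀ v then f0 hp x₀ v
  else σ (Classical.choose (exists_smul_of_not_I2 hx₀ h)) • p x₀

theorem fExt_of_I2 (hp : IsColl (K := K) p) {x₀ : V} (hx₀ : x₀ ≠ 0) (σ : K → K) {v : V}
    (h : I2 (K := K) x₀ v) : fExt hp hx₀ σ v = f0 hp x₀ v := by
  unfold fExt
  rw [dif_pos h]

theorem fExt_smul_base (hp : IsColl (K := K) p) {x₀ : V} (hx₀ : x₀ ≠ 0) (σ : K → K) (a : K) :
    fExt hp hx₀ σ (a • x₀) = σ a • p x₀ := by
  unfold fExt
  have h : ¬ I2 (K := K) x₀ (a • x₀) := not_I2_smul x₀ a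
  rw [dif_neg h]
  have := Classical.choose_spec (exists_smul_of_not_I2 hx₀ h)
  rw [← coef_unique hx₀ this]

section Ext

variable (hp : IsColl (K := K) p) (hdim : ∀ u v : V, ∃ w : V, ¬ Sp2 (K := K) u v w)
  {x₀ : V} (hx₀ : x₀ ≠ 0) {σ : K → K} (hσ0 : σ 0 = 0) (hσne : ∀ a, a ≠ 0 → σ a ≠ 0)
  (hσ : ∀ y, I2 (K := K) x₀ y → ∀ a, a ≠ 0 → f0 hp x₀ (a • y) = σ a • f0 hp x₀ y)

include hdim hσ0 hσ in
/-- case: one summand on the base line -/
theorem fExt_add_base {a : K} {v : V} (hv : I2 (K := K) x₀ v) :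
    fExt hp hx₀ σ (a • x₀ + v) = fExt hp hx₀ σ (a • x₀) + fExt hp hx₀ σ v := by
  rw [fExt_smul_base, fExt_of_I2 hp hx₀ σ hv]
  by_cases ha : a = 0
  · rw [ha, zero_smul, zero_add, hσ0, zero_smul, zero_add, fExt_of_I2 hp hx₀ σ hv]
  have h1 : I2 (K := K) x₀ (a • x₀ + v) := by
    intro α β h
    have h2 : (α + β * a) • x₀ + β • v = 0 := by rw [← h]; module
    have := hv _ _ h2
    have hβ := this.2
    rw [hβ, zero_mul, add_zero] at this
    exact ⟨this.1, hβ⟩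
  rw [fExt_of_I2 hp hx₀ σ h1]
  have h2 : a • x₀ + v = a • (x₀ + a⁻¹ • v) := by
    rw [smul_add, smul_smul, mul_inv_cancel₀ ha, one_smul]
  have h3 : I2 (K := K) x₀ (a⁻¹ • v) := hv.smul_right (inv_ne_zero ha)
  rw [h2, hσ _ h3.add_right a ha, f0_base_add hp hdim h3, hσ v hv a⁻¹ (inv_ne_zero ha), smul_add,
    smul_smul]
  have h4 : σ a * σ a⁻¹ = 1 := by
    rw [← sigma_mul hp hdim hx₀ hσ0 hσ, mul_inv_cancel₀ ha, sigma_one hp hdim hx₀ hσ]
  rw [h4, one_smul]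

include hdim hx₀ hσ0 hσ in
theorem f0_neg {v : V} (hv : I2 (K := K) x₀ v) : f0 hp x₀ (-v) = -f0 hp x₀ v := by
  have h1 := hσ v hv (-1) (neg_ne_zero.mpr one_ne_zero)
  rw [sigma_neg_one hp hdim hx₀ hσ0 hσ, neg_smul, one_smul, neg_smul, one_smul] at h1
  exact h1

include hdim hσ0 hσ in
/-- additivity of the extended lift -/
theorem fExt_add (u v : V) : fExt hp hx₀ σ (u + v) = fExt hp hx₀ σ u + fExt hp hx₀ σ v := by
  by_cases hu : I2 (K := K) x₀ u
  · by_cases hv : I2 (K := K) x₀ v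
    · by_cases huv : I2 (K := K) x₀ (u + v)
      · rw [fExt_of_I2 hp hx₀ σ hu, fExt_of_I2 hp hx₀ σ hv, fExt_of_I2 hp hx₀ σ huv]
        by_cases h3 : I3 (K := K) x₀ u v
        · exact f0_add hp h3
        · -- `v` in the span of `x₀, u`
          obtain ⟨w, hw⟩ := hdim x₀ u
          have hw1 : I3 (K := K) x₀ u w := I3_of_I2_of_not_sp2 hu hw
          have hsp : Sp2 (K := K) x₀ u v := by
            by_contra h
            exact h3 (I3_of_I2_of_not_sp2 hu h)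
          obtain ⟨α, β, hαβ⟩ := hsp
          -- `w` is outside the span of `x₀` and any vector of the span of `x₀, u`
          have key : ∀ t : V, Sp2 (K := K) x₀ u t → ¬ Sp2 (K := K) x₀ t w := by
            rintro t ⟨γ, δ, rfl⟩ ⟨ε, ζ, hεζ⟩
            apply hw
            exact ⟨ε + ζ * γ, ζ * δ, by rw [hεζ]; module⟩
          have hw2 : I3 (K := K) x₀ (u + v) w :=
            I3_of_I2_of_not_sp2 huv (key _ ⟨α, 1 + β, by rw [hαβ]; module⟩)
          have hw3 : I3 (K := K) x₀ v w := I3_of_I2_of_not_sp2 hv (key _ ⟨α, β, hαβ⟩)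
          have hw4 : I3 (K := K) x₀ u (v + w) := by
            apply I3_of_I2_of_not_sp2 hu
            rintro ⟨γ, δ, hγδ⟩
            apply hw
            refine ⟨γ - α, δ - β, ?_⟩
            have : w = (v + w) - v := by abel
            rw [this, hγδ, hαβ]; module
          have e1 := f0_add hp hw2
          have e2 := f0_add hp hw4
          have e3 := f0_add hp hw3
          rw [add_assoc, e2, e3] at e1
          have : f0 hp x₀ (u + v) + f0 hp x₀ w = f0 hp x₀ u + f0 hp x₀ v + f0 hp x₀ w := by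
            rw [← e1]; abel
          exact add_right_cancel this
      · -- `u + v` on the base line
        obtain ⟨a, ha⟩ := exists_smul_of_not_I2 hx₀ huv
        have hv' : v = a • x₀ + (-u) := by rw [← ha]; abel
        have hnu : I2 (K := K) x₀ (-u) := by
          have := hu.smul_right (a := (-1 : K)) (neg_ne_zero.mpr one_ne_zero)
          rwa [neg_smul, one_smul] at this
        rw [ha, hv', fExt_add_base hp hdim hx₀ hσ0 hσ hnu, fExt_of_I2 hp hx₀ σ hnu,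
          fExt_of_I2 hp hx₀ σ hu, f0_neg hp hdim hx₀ hσ0 hσ hu]
        abel
    · obtain ⟨b, rfl⟩ := exists_smul_of_not_I2 hx₀ hv
      rw [add_comm, fExt_add_base hp hdim hx₀ hσ0 hσ hu, add_comm]
  · obtain ⟨a, rfl⟩ := exists_smul_of_not_I2 hx₀ hu
    by_cases hv : I2 (K := K) x₀ v
    · exact fExt_add_base hp hdim hx₀ hσ0 hσ hv
    · obtain ⟨b, rfl⟩ := exists_smul_of_not_I2 hx₀ hv
      rw [← add_smul, fExt_smul_base, fExt_smul_base, fExt_smul_base,
        sigma_add hp hdim hx₀ hσ0 hσ, add_smul]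

include hdim hσ0 hσ in
theorem fExt_smul (a : K) (v : V) : fExt hp hx₀ σ (a • v) = σ a • fExt hp hx₀ σ v := by
  by_cases hv : I2 (K := K) x₀ v
  · by_cases ha : a = 0
    · rw [ha, zero_smul, hσ0, zero_smul]
      have := fExt_smul_base hp hx₀ σ 0
      rw [zero_smul, hσ0, zero_smul] at this
      exact this
    · rw [fExt_of_I2 hp hx₀ σ hv, fExt_of_I2 hp hx₀ σ (hv.smul_right ha), hσ v hv a ha]
  · obtain ⟨b, rfl⟩ := exists_smul_of_not_I2 hx₀ hv
    rw [smul_smul, fExt_smul_base, fExt_smul_base, sigma_mul hp hdim hx₀ hσ0 hσ, mul_smul]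

include hσne in
theorem par_fExt {v : V} (hv : v ≠ 0) : Par (K := K) (p v) (fExt hp hx₀ σ v) := by
  by_cases h : I2 (K := K) x₀ v
  · rw [fExt_of_I2 hp hx₀ σ h]
    exact par_f0 hp h
  · obtain ⟨b, rfl⟩ := exists_smul_of_not_I2 hx₀ h
    have hb : b ≠ 0 := by
      rintro rfl
      exact hv (zero_smul K x₀)
    rw [fExt_smul_base]
    exact (hp.par_smul hx₀ hb).trans ⟨(σ b)⁻¹, inv_ne_zero (hσne b hb), by
      rw [smul_smul, inv_mul_cancel₀ (hσne b hb), one_smul]⟩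

end Ext

/-- **Fundamental theorem of projective geometry** (vector form). -/
theorem exists_semilinear (hp : IsColl (K := K) p)
    (hdim : ∀ u v : V, ∃ w : V, ¬ Sp2 (K := K) u v w) :
    ∃ (σ : K →+* K) (f : V → V), (∀ x y, f (x + y) = f x + f y) ∧
      (∀ (a : K) x, f (a • x) = σ a • f x) ∧ ∀ x, x ≠ 0 → Par (K := K) (p x) (f x) := by
  obtain ⟨x₀, hx₀⟩ : ∃ x₀ : V, x₀ ≠ 0 := by
    obtain ⟨w, hw⟩ := hdim 0 0
    refine ⟨w, ?_⟩
    rintro rfl
    exact hw ⟨0, 0, by simp⟩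
  obtain ⟨σ, hσ0, hσne, hσ⟩ := exists_sigma_fun hp hdim hx₀
  refine ⟨{ toFun := σ
            map_one' := sigma_one hp hdim hx₀ hσ
            map_mul' := sigma_mul hp hdim hx₀ hσ0 hσ
            map_zero' := hσ0
            map_add' := sigma_add hp hdim hx₀ hσ0 hσ }, fExt hp hx₀ σ, ?_, ?_, ?_⟩
  · exact fExt_add hp hdim hx₀ hσ0 hσ
  · exact fExt_smul hp hdim hx₀ hσ0 hσ
  · intro x hx
    exact par_fExt hp hx₀ hσne hx

end Cfsg.Agent.Lib.Helper45.FTPG
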